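import Cfsg.Agent.H935.ThreeC.Abs
import Cfsg.Agent.MonsterX.ThreeCFinal
import Cfsg.Agent.H574.RowTh
import Cfsg.Agent.MonsterP.Equiv

/-!
# The Monster: elements of order 3 commuting with an element of order 19 (helper935)

`card_cent_three` : such an element has a centralizer of order `3 |Th|`.
-/

set_option autoImplicit false
set_option maxRecDepth 100000

namespace Cfsg.Agent.H935.ThreeC

open Subgroup Cfsg Cfsg.Agent.MonsterX Cfsg.Agent.MonsterX.Model Cfsg.Agent.MonsterX.InstData
open Cfsg.Agent.MonsterX.Space Cfsg.Agent.MonsterX.BaseVec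
open Cfsg.Spor (Co1)

theorem th_isTh : Cfsg.IsTh Cfsg.Spor.Th := Cfsg.Agent.Th.Main1700.isTh

theorem th_nc : ¬ ∀ a b : Cfsg.Spor.Th, a * b = b * a := by
  have hs : IsSimpleGroup Cfsg.Spor.Th := th_isTh.1
  intro hab
  have hp : (Nat.card Cfsg.Spor.Th).Prime := by
    let _ : CommGroup Cfsg.Spor.Th := { (inferInstance : Group Cfsg.Spor.Th) with mul_comm := hab }
    have : Finite Cfsg.Spor.Th := Nat.finite_of_card_ne_zero (by rw [th_isTh.2]; norm_num)
    exact IsSimpleGroup.prime_card
  rw [th_isTh.2] at hp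
  have h2 : 2 ∣ 90745943887872000 := by norm_num
  rcases (Nat.dvd_prime hp).mp h2 with h | h <;> norm_num at h

theorem th_center (s : Cfsg.Spor.Th) (h : ∀ t, s * t = t * s) : s = 1 := by
  have hs : IsSimpleGroup Cfsg.Spor.Th := th_isTh.1
  rcases (inferInstance : (center Cfsg.Spor.Th).Normal).eq_bot_or_eq_top with h2 | h2
  · have h1 : s ∈ center Cfsg.Spor.Th := mem_center_iff.2 fun t => (h t).symm
    rw [h2, mem_bot] at h1
    exact h1
  · exfalso
    apply th_nc
    intro a b
    have h3 : a ∈ center Cfsg.Spor.Th := h2 ▸ mem_top a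
    exact (mem_center_iff.1 h3 b).symm

/-- The Thompson group in the model, with the order of the centralizer. -/
theorem exists_th (P : Pack Co1) (hT : MTrans M) : ∃ y : Conc.G, orderOf y = 3 ∧ ∃ T : Subgroup Conc.G,
    T ≤ Subgroup.centralizer ({y} : Set Conc.G) ∧ Nonempty (T ≃* Cfsg.Spor.Th) ∧
      Nat.card ↥(Subgroup.centralizer ({y} : Set Conc.G)) = 3 * Nat.card Cfsg.Spor.Th := by
  have hTh := th_isTh
  have hs : IsSimpleGroup Cfsg.Spor.Th := hTh.1
  have hc : Nat.card Cfsg.Spor.Th = 90745943887872000 := hTh.2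
  have hfin : Finite Conc.G := by
    have h := MainBasic.G_finite P.hO
    rwa [M_G] at h
  have : Finite Cfsg.Spor.Th := Nat.finite_of_card_ne_zero (by rw [hc]; norm_num)
  obtain ⟨y, hy, hy3, T, hTy, -, e, he⟩ := ThPart.part P hTh
  obtain ⟨haT, hea⟩ := he .a
  set z : Conc.G := ⟨ThPart.f .a, ThLet.mem_G P.tau _⟩ with hzdef
  have hz : (z : V ≃ₗ[ℚ] V) = Conc.z := ThPart.f_a
  have hz2 : orderOf z = 2 := by
    apply orderOf_eq_prime
    · rw [pow_two]
      apply Subtype.ext
      show (z : V ≃ₗ[ℚ] V) * (z : V ≃ₗ[ℚ] V) = 1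
      rw [hz]
      exact P.hG.z_sq
    · intro h
      apply P.hG.z_ne
      have h1 : (z : V ≃ₗ[ℚ] V) = 1 := congrArg Subtype.val h
      rw [hz] at h1
      exact h1
  have hez : orderOf (e ⟨z, haT⟩) = 2 := by
    rw [← hz2, ← Subgroup.orderOf_mk z haT]
    exact orderOf_injective e.toMonoidHom e.injective _
  have hord : 92897280 ≤ Nat.card (centralizer ({e ⟨z, haT⟩} : Set Cfsg.Spor.Th)) :=
    le_of_eq (ThOneClass.card_centralizer hez).symm
  have hord' : 92897280 ≤ Nat.card (T ⊓ centralizer ({z} : Set Conc.G) : Subgroup Conc.G) := by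
    refine hord.trans ?_
    refine Nat.card_le_card_of_injective
      (fun c : centralizer ({e ⟨z, haT⟩} : Set Cfsg.Spor.Th) =>
        (⟨(e.symm (c : Cfsg.Spor.Th) : T), ⟨(e.symm (c : Cfsg.Spor.Th)).2, ?_⟩⟩ :
          (T ⊓ centralizer ({z} : Set Conc.G) : Subgroup Conc.G))) ?_
    · refine mem_centralizer_singleton_iff.mpr ?_
      have h1 := mem_centralizer_singleton_iff.mp c.2
      have h2 : e.symm (c : Cfsg.Spor.Th) * ⟨z, haT⟩ = ⟨z, haT⟩ * e.symm (c : Cfsg.Spor.Th) := by
        apply e.injective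
        rw [map_mul, map_mul, e.apply_symm_apply]
        exact h1
      exact congrArg Subtype.val h2
    · intro a b hab
      have h1 : ((e.symm (a : Cfsg.Spor.Th) : T) : Conc.G) = (e.symm (b : Cfsg.Spor.Th) : T) :=
        congrArg (fun w : (T ⊓ centralizer ({z} : Set Conc.G) : Subgroup Conc.G) => (w : Conc.G)) hab
      exact Subtype.ext (e.symm.injective (Subtype.ext h1))
  have hmain := ThreeCPack.card_centralizer th_nc ThOneClass.closing (x := y) (z := z) (by rw [hy3]; decide) hz2 hTy e haT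
    (by
      rw [hy3]
      calc _ ≤ 278691840 := ThreeCFinal.hb P.hG P.hR P.hL P.hO hT M_G hy hz
        _ = 3 * 92897280 := by norm_num
        _ ≤ _ := Nat.mul_le_mul_left 3 hord')
  exact ⟨y, hy3, T, hTy, ⟨e⟩, by rw [hmain, hy3]⟩

/-- in `Th`, an element of order 19 commutes with no non-trivial element of order prime to 19 -/
theorem th_nin (s v : Cfsg.Spor.Th) (hs : s ≠ 1) (h19 : ¬ 19 ∣ orderOf s) (hv : orderOf v = 19) : s * v ≠ v * s := by
  have : Finite Cfsg.Spor.Th := Nat.finite_of_card_ne_zero (by rw [th_isTh.2]; norm_num)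
  intro h
  apply H574.RowTh.th_nineteen hs h19
  have h1 : v ∈ centralizer ({s} : Set Cfsg.Spor.Th) := mem_centralizer_singleton_iff.2 h.symm
  rw [← hv, ← Subgroup.orderOf_mk v h1]
  exact orderOf_dvd_natCard _

theorem model (P : Pack Co1) (hT : MTrans M) (hM : Cfsg.IsM Conc.G) {x y : Conc.G} (hx : orderOf x = 3)
    (hy : orderOf y = 19) (hxy : x * y = y * x) :
    Nat.card ↥(Subgroup.centralizer ({x} : Set Conc.G)) = 272237831663616000 := by
  have hc : Nat.card Cfsg.Spor.Th = 90745943887872000 := th_isTh.2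
  have hfinT : Finite Cfsg.Spor.Th := Nat.finite_of_card_ne_zero (by rw [hc]; norm_num)
  have hfin : Finite Conc.G := Nat.finite_of_card_ne_zero (by rw [hM.2]; norm_num)
  have hp19 : Fact (Nat.Prime 19) := ⟨by norm_num⟩
  obtain ⟨y₀, hy₀, T, hT', ⟨e⟩, hcard⟩ := exists_th P hT
  obtain ⟨v, hv⟩ := exists_prime_orderOf_dvd_card' (G := Cfsg.Spor.Th) 19 (by rw [hc]; norm_num)
  have hv' : orderOf ((e.symm v : ↥T) : Conc.G) = 19 := by
    rw [Subgroup.orderOf_coe, MulEquiv.orderOf_eq, hv]
  rw [card_eq hy₀ hT' e th_center hcard (e.symm v).2 hv' th_nin (by rw [hM.2]; norm_num) hx hy hxy, hcard, hc]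

theorem card_of_equiv {A B : Type*} [Group A] [Group B] (e : A ≃* B) (x : A) :
    Nat.card ↥(Subgroup.centralizer ({x} : Set A)) = Nat.card ↥(Subgroup.centralizer ({e x} : Set B)) := by
  refine Nat.card_congr
    { toFun := fun y => ⟨e y, mem_centralizer_singleton_iff.2 ?_⟩
      invFun := fun y => ⟨e.symm y, mem_centralizer_singleton_iff.2 ?_⟩
      left_inv := fun y => Subtype.ext (e.symm_apply_apply _)
      right_inv := fun y => Subtype.ext (e.apply_symm_apply _) }
  · rw [← map_mul, ← map_mul, mem_centralizer_singleton_iff.1 y.2]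
  · apply e.injective
    rw [map_mul, map_mul, e.apply_symm_apply, mem_centralizer_singleton_iff.1 y.2]

/-- **Piece E**: an element of order 3 commuting with an element of order 19 is in the class `3C`. -/
theorem card_cent_three {x y : Spor.Monster} (hx : orderOf x = 3) (hy : orderOf y = 19) (hxy : x * y = y * x) :
    Nat.card (Subgroup.centralizer ({x} : Set Spor.Monster)) = 272237831663616000 := by
  obtain ⟨e⟩ := MonsterP.Equiv.equiv
  rw [card_of_equiv e]
  refine model InstanceFinal.pack Instance.mTrans MonsterP.EquivOf.isM_model (y := e y) ?_ ?_ ?_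
  · rw [← hx]; exact MulEquiv.orderOf_eq e x
  · rw [← hy]; exact MulEquiv.orderOf_eq e y
  · exact (map_mul e x y).symm.trans ((congrArg e hxy).trans (map_mul e y x))

end Cfsg.Agent.H935.ThreeC
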